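import Cfsg.Agent.H52.F4Odd.Uniq
import Cfsg.Agent.H56.Wei.Defs
import Cfsg.Agent.H862.Spr.Rows

/-!
# S3938, row `F₄(q)`, `q` odd (helper52): the row from the overgroups of the torus element
-/

set_option autoImplicit false

namespace Cfsg.Agent.H52.F4Odd

open Cfsg Cfsg.Lie Module Cfsg.Agent.OrdDiv Cfsg.Agent.H436 Cfsg.Agent.H56.Wei
open Cfsg.Agent.H424.Spr (Spr)
open Cfsg.Agent.ChevalleyStructure.E6Min.Tables
open Cfsg.Agent.H952.F4

/-- primes dividing `q⁴ - q² + 1` -/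
theorem ord_twelve {q r : ℕ} (hq : 2 ≤ q) (hr : r.Prime) (h : r ∣ q ^ 4 - q ^ 2 + 1) :
    orderOf ((q : ℕ) : ZMod r) = 12 ∧ r ≠ 2 := by
  have hle : q ^ 2 ≤ q ^ 4 := Nat.pow_le_pow_right (by omega) (by norm_num)
  have h1 : ((q : ZMod r)) ^ 4 - (q : ZMod r) ^ 2 + 1 = 0 := by
    have := (ZMod.natCast_eq_zero_iff _ _).2 h
    rw [Nat.cast_add, Nat.cast_sub hle, Nat.cast_pow, Nat.cast_pow, Nat.cast_one] at this
    exact this
  have hr2 : r ≠ 2 := by
    rintro rfl
    have h2 : Even (q ^ 4 - q ^ 2) := by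
      rw [Nat.even_sub hle]
      simp [Nat.even_pow]
    have h3 : Odd (q ^ 4 - q ^ 2 + 1) := h2.add_one
    exact (Nat.not_even_iff_odd.2 h3) (even_iff_two_dvd.2 h)
  have hr3 : r ≠ 3 := by
    rintro rfl
    generalize ((q : ℕ) : ZMod 3) = a at h1
    revert h1 a
    decide
  have hrf : Fact r.Prime := ⟨hr⟩
  set a : ZMod r := (q : ZMod r) with ha
  have h6 : a ^ 6 = -1 := by
    have : a ^ 6 + 1 = (a ^ 2 + 1) * (a ^ 4 - a ^ 2 + 1) := by ring
    rw [h1, mul_zero] at this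
    exact eq_neg_of_add_eq_zero_left this
  have hne : (-1 : ZMod r) ≠ 1 := by
    intro h
    have h8 : ((2 : ℕ) : ZMod r) = 0 := by
      have : (2 : ZMod r) = 1 - (-1) := by ring
      push_cast
      rw [this, h, sub_self]
    rw [ZMod.natCast_eq_zero_iff] at h8
    exact hr2 ((Nat.prime_dvd_prime_iff_eq hr Nat.prime_two).1 h8)
  refine ⟨?_, hr2⟩
  refine orderOf_eq_of_pow_and_pow_div_prime (by norm_num) ?_ ?_
  · have : a ^ 12 = (a ^ 6) ^ 2 := by ring
    rw [this, h6]; ring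
  · intro p hp hpd
    have hp' : p = 2 ∨ p = 3 := by
      have h7 : p ∣ 2 ^ 2 * 3 := hpd
      rcases (Nat.Prime.dvd_mul hp).1 h7 with h8 | h8
      · exact Or.inl ((Nat.prime_dvd_prime_iff_eq hp Nat.prime_two).1 (hp.dvd_of_dvd_pow h8))
      · exact Or.inr ((Nat.prime_dvd_prime_iff_eq hp Nat.prime_three).1 h8)
    rcases hp' with rfl | rfl
    · change a ^ 6 ≠ 1
      rw [h6]; exact hne
    · change a ^ 4 ≠ 1
      intro h4
      have h5 : a ^ 2 = 2 := by linear_combination h4 - h1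
      have h7 : ((3 : ℕ) : ZMod r) = 0 := by
        have : (3 : ZMod r) = 2 ^ 2 - 1 := by ring
        push_cast
        rw [this, ← h5, ← pow_mul]
        change a ^ 4 - 1 = 0
        rw [h4, sub_self]
      rw [ZMod.natCast_eq_zero_iff] at h7
      exact hr3 ((Nat.prime_dvd_prime_iff_eq hr Nat.prime_three).1 h7)

/-- a prime dividing `q² - q + 1` -/
theorem exists_six {q : ℕ} (hq : 3 ≤ q) : ∃ l : ℕ, l.Prime ∧ orderOf ((q : ℕ) : ZMod l) = 6 := by
  have hle : q ≤ q ^ 2 := by nlinarith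
  -- a prime divisor different from 3
  obtain ⟨l, hl, hld, hl3⟩ : ∃ l : ℕ, l.Prime ∧ l ∣ q ^ 2 - q + 1 ∧ l ≠ 3 := by
    by_contra hno
    push Not at hno
    have h1 : ∀ l : ℕ, l.Prime → l ∣ q ^ 2 - q + 1 → l = 3 := hno
    have h9 : ¬ 9 ∣ q ^ 2 - q + 1 := by
      intro h
      have h2 : ((q : ZMod 9)) ^ 2 - (q : ZMod 9) + 1 = 0 := by
        have := (ZMod.natCast_eq_zero_iff _ _).2 h
        rw [Nat.cast_add, Nat.cast_sub hle, Nat.cast_pow, Nat.cast_one] at this
        exact this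
      generalize ((q : ℕ) : ZMod 9) = a at h2
      revert h2 a
      decide
    have h3 : q ^ 2 - q + 1 = 3 ^ (q ^ 2 - q + 1).primeFactorsList.length :=
      Nat.eq_prime_pow_of_unique_prime_dvd (by omega) (fun {d} hd hdd => h1 d hd hdd)
    have h4 : (q ^ 2 - q + 1).primeFactorsList.length < 2 := by
      by_contra h5
      apply h9
      rw [h3]
      exact pow_dvd_pow 3 (by omega : 2 ≤ _)
    have h5 : q ^ 2 - q + 1 ≤ 3 := by
      rw [h3]
      calc 3 ^ (q ^ 2 - q + 1).primeFactorsList.length ≤ 3 ^ 1 := Nat.pow_le_pow_right (by norm_num) (by omega)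
        _ = 3 := by norm_num
    have h6 : 3 * q ≤ q ^ 2 := by nlinarith
    omega
  have h1 : ((q : ZMod l)) ^ 2 - (q : ZMod l) + 1 = 0 := by
    have := (ZMod.natCast_eq_zero_iff _ _).2 hld
    rw [Nat.cast_add, Nat.cast_sub hle, Nat.cast_pow, Nat.cast_one] at this
    exact this
  have hl2 : l ≠ 2 := by
    rintro rfl
    generalize ((q : ℕ) : ZMod 2) = a at h1
    revert h1 a
    decide
  have hlf : Fact l.Prime := ⟨hl⟩
  refine ⟨l, hl, ?_⟩
  set a : ZMod l := (q : ZMod l) with ha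
  have h3 : a ^ 3 = -1 := by
    have : a ^ 3 + 1 = (a + 1) * (a ^ 2 - a + 1) := by ring
    rw [h1, mul_zero] at this
    exact eq_neg_of_add_eq_zero_left this
  have hne : (-1 : ZMod l) ≠ 1 := by
    intro h
    have h8 : ((2 : ℕ) : ZMod l) = 0 := by
      have : (2 : ZMod l) = 1 - (-1) := by ring
      push_cast
      rw [this, h, sub_self]
    rw [ZMod.natCast_eq_zero_iff] at h8
    exact hl2 ((Nat.prime_dvd_prime_iff_eq hl Nat.prime_two).1 h8)
  refine orderOf_eq_of_pow_and_pow_div_prime (by norm_num) ?_ ?_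
  · have : a ^ 6 = (a ^ 3) ^ 2 := by ring
    rw [this, h3]; ring
  · intro p hp hpd
    have hp' : p = 2 ∨ p = 3 := by
      have h7 : p ∣ 2 * 3 := hpd
      rcases (Nat.Prime.dvd_mul hp).1 h7 with h8 | h8
      · exact Or.inl ((Nat.prime_dvd_prime_iff_eq hp Nat.prime_two).1 h8)
      · exact Or.inr ((Nat.prime_dvd_prime_iff_eq hp Nat.prime_three).1 h8)
    rcases hp' with rfl | rfl
    · change a ^ 3 ≠ 1
      rw [h3]; exact hne
    · change a ^ 2 ≠ 1
      intro h4
      have h5 : a = 2 := by linear_combination h4 - h1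
      have h7 : ((3 : ℕ) : ZMod l) = 0 := by
        have : (3 : ZMod l) = 2 ^ 2 - 1 := by ring
        push_cast
        rw [this, ← h5, h4, sub_self]
      rw [ZMod.natCast_eq_zero_iff] at h7
      exact hl3 ((Nat.prime_dvd_prime_iff_eq hl Nat.prime_three).1 h7)

/-- **The row, `q` odd, from the overgroups of the torus element and the facts on `³D₄(q)`.** -/
theorem spr_of {T : Type} [Group T] [Finite T] (hs : IsSimpleGroup T) {q : ℕ} (hn : IsNamed (.f4 q) T)
    (hodd : Odd q) {x : T} (hx : orderOf x = q ^ 4 - q ^ 2 + 1) (hover : Over x (fun g => g = .td4 q))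
    (htd : ∀ {S : Type} [Group S] [Finite S], IsSimpleGroup S → IsNamed (.td4 q) S → ∀ y : S,
      orderOf y = q ^ 4 - q ^ 2 + 1 →
      (∀ H : Subgroup S, y ∈ H → H ≠ ⊤ → H ≤ Subgroup.normalizer (Subgroup.zpowers y : Set S)) ∧ Quat q y) :
    Spr T := by
  obtain ⟨⟨F, _, _, hF, ⟨e⟩⟩, hcond, -, -⟩ := id hn
  have hpp : IsPrimePow q := hcond
  have hq2 : 2 ≤ q := hpp.two_le
  have hq3 : 3 ≤ q := by
    rcases hodd with ⟨k, hk⟩
    omega
  have hFc : Nat.card F = q := by rw [Nat.card_eq_fintype_card, hF]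
  obtain ⟨p, hp⟩ := CharP.exists F
  have hpf : Fact p.Prime := ⟨CharP.char_is_prime F p⟩
  have hp2 : p ≠ 2 := by
    rintro rfl
    obtain ⟨n, _, hn'⟩ := FiniteField.card F 2
    rw [hF] at hn'
    rw [hn'] at hodd
    exact (Nat.not_even_iff_odd.2 hodd) (even_two.pow_of_ne_zero n.pos.ne')
  have h2F : (2 : F) ≠ 0 := two_ne hp2
  obtain ⟨ρ, hρ⟩ := JMod.exists_isJ F
  have hle : q ^ 2 ≤ q ^ 4 := Nat.pow_le_pow_right (by omega) (by norm_num)
  have hn1 : q ^ 4 - q ^ 2 + 1 ≠ 1 := by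
    have : q ^ 2 < q ^ 4 := Nat.pow_lt_pow_right (by omega) (by norm_num)
    omega
  set r := (q ^ 4 - q ^ 2 + 1).minFac with hrdef
  have hr : r.Prime := Nat.minFac_prime hn1
  have hrd : r ∣ q ^ 4 - q ^ 2 + 1 := Nat.minFac_dvd _
  obtain ⟨h12, hr2⟩ := ord_twelve hq2 hr hrd
  obtain ⟨l, hl, h6⟩ := exists_six hq3
  have hJ : JF r (JK ρ) := jf p hp2 hρ hr (by rw [hFc]; exact h12)
  let σ : Representation F T (I27 → F) := (JK ρ).comp e.toMonoidHom
  have hσ : JF r σ := hJ.comp e.toMonoidHom e.injective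
  obtain ⟨k, hk⟩ := hrd
  have hk0 : k ≠ 0 := by
    rintro rfl
    rw [mul_zero] at hk
    omega
  set s : T := x ^ k with hsdef
  have hsord : orderOf s = r := by
    rw [hsdef, orderOf_pow_of_dvd hk0 ⟨r, by rw [hx, hk, mul_comm]⟩, hx, hk, Nat.mul_div_cancel _ (Nat.pos_of_ne_zero hk0)]
  have hs1 : s ≠ 1 := by
    intro h
    rw [h, orderOf_one] at hsord
    exact hr.one_lt.ne hsord
  have hsr : s ^ r = 1 := by rw [← hsord, pow_orderOf_eq_one]
  have hsx : s ∈ Subgroup.zpowers x := Subgroup.npow_mem_zpowers x k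
  have hthree : ev (σ s) 1 = 3 := hσ.three s hs1 hsr
  have hsP : s ∈ Ptw σ (es (σ s) 1) := fun v hv => mem_one.1 hv
  have hM : Stb σ (es (σ s) 1) ≠ ⊤ := by
    intro h
    have h1 := fixed_of_stab σ h hs1 hsP
    have h3 := fixed hρ (es (σ s) 1) (by
      intro g v hv
      have h4 : e.symm g ∈ Ptw σ (es (σ s) 1) := by rw [h1]; trivial
      have h5 := h4 v hv
      change JK ρ (e (e.symm g)) v = v at h5
      rwa [e.apply_symm_apply] at h5)
    change ev (σ s) 1 ≤ 1 at h3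
    omega
  refine H424.Spr.spr_of_one ?_ hM (s := x) ?_
  · by_contra hcomm
    push Not at hcomm
    apply hM
    rw [eq_top_iff]
    intro g _
    refine mem_Stb_of_norm σ ?_ ?_
    · have : g⁻¹ * s * g = s := by rw [mul_assoc, hcomm s g, inv_mul_cancel_left]
      rw [this]
      exact Subgroup.mem_zpowers _
    · have : g * s * g⁻¹ = s := by rw [hcomm g s, mul_inv_cancel_right]
      rw [this]
      exact Subgroup.mem_zpowers _
  · intro H hxH hH
    rcases hover H hxH hH with h | ⟨S, hSn, hSs, hSna, hSc, hxS, g, rfl, hSn'⟩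
    · intro g hg
      have h1 := h hg
      have h3 := h (H.inv_mem hg)
      rw [Subgroup.mem_normalizer_iff] at h1 h3
      refine mem_Stb_of_norm σ ?_ ?_
      · have h4 := (h3 x).1 (Subgroup.mem_zpowers x)
        have h5 := conj_zpowers hsx h4
        rwa [inv_inv] at h5
      · exact conj_zpowers hsx ((h1 x).1 (Subgroup.mem_zpowers x))
    · let y : ↥S := ⟨⟨x, hxH⟩, hxS⟩
      have hy : orderOf y = q ^ 4 - q ^ 2 + 1 := by
        rw [← hx, ← Subgroup.orderOf_coe, ← Subgroup.orderOf_coe]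
      let φ : ↥S →* T := H.subtype.comp S.subtype
      have hφ : Function.Injective φ := H.subtype_injective.comp S.subtype_injective
      have hσS : JF r (σ.comp φ : Representation F ↥S (I27 → F)) := hσ.comp φ hφ
      obtain ⟨ho, hQ⟩ := htd hSs hSn' y hy
      have hφs : φ (y ^ k) = s := by
        rw [map_pow]
        rfl
      have h1 := fix_of_quat (σ := (σ.comp φ : Representation F ↥S (I27 → F))) h2F hr hr2 hσS hl
        (by rw [hFc]; exact h6) (x := y) (s := y ^ k)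
        (fun h => hs1 (by rw [← hφs, h, map_one])) (hφ (by rw [map_pow, hφs, hsr, map_one]))
        (Subgroup.npow_mem_zpowers y k) ho (by rw [hFc]; exact hQ)
      have hUeq : es ((σ.comp φ : Representation F ↥S (I27 → F)) (y ^ k)) 1 = es (σ s) 1 := by
        change es (σ (φ (y ^ k))) 1 = _
        rw [hφs]
      rw [hUeq] at h1
      have h3 : ∀ z : ↥S, ∀ v ∈ es (σ s) 1, σ (φ z) v = v := by
        intro z
        have : z ∈ Ptw (σ.comp φ : Representation F ↥S (I27 → F)) (es (σ s) 1) := by rw [h1]; trivial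
        exact this
      have hsH : s ∈ H := H.pow_mem hxH k
      have hsS : (⟨s, hsH⟩ : ↥H) ∈ S := by
        have : (⟨s, hsH⟩ : ↥H) = ⟨x, hxH⟩ ^ k := rfl
        rw [this]
        exact S.pow_mem hxS k
      have key : ∀ h ∈ H, ∀ v ∈ es (σ s) 1, σ h v ∈ es (σ s) 1 := by
        intro h hh v hv
        rw [mem_one]
        have h4 : (⟨h, hh⟩ : ↥H)⁻¹ * ⟨s, hsH⟩ * ((⟨h, hh⟩ : ↥H)⁻¹)⁻¹ ∈ S := hSn.conj_mem _ hsS _
        rw [inv_inv] at h4
        have h5 := h3 ⟨_, h4⟩ v hv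
        change σ (h⁻¹ * s * h) v = v at h5
        have e1 : s * h = h * (h⁻¹ * s * h) := by group
        rw [← Module.End.mul_apply, ← map_mul, e1, map_mul, Module.End.mul_apply, h5]
      intro h hh
      exact ⟨key h hh, key h⁻¹ (H.inv_mem hh)⟩

end Cfsg.Agent.H52.F4Odd
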