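import Cfsg.Agent.H52.F4Odd.QuatZ
import Cfsg.Agent.H52.F4Odd.Row
import Cfsg.Agent.S1067
import Cfsg.Agent.H129.RealTw
import Cfsg.Agent.H83.TorD4
import Cfsg.Agent.H436.Names

/-!
# S3938, row `F₄(q)`, `q` odd (helper52): an involution of `³D₄(q)` inverting an element of order `q⁴ - q² + 1`
-/

set_option autoImplicit false

namespace Cfsg.Agent.H52.F4Odd

open Cfsg Cfsg.Lie Cfsg.Agent.H129 Cfsg.Agent.Nodes.RGDChev Cfsg.Agent.H129.TorusTw Cfsg.Agent.H101.RO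
  Cfsg.Agent.H129.RealT

universe u

/-- an element of prime order `r` is conjugate to an element of a subgroup of index prime to `r` -/
theorem exists_conj_mem {G : Type*} [Group G] [Finite G] {T : Subgroup G} {r : ℕ} (hr : r.Prime) (hT : ¬ r ∣ T.index)
    {s : G} (hs : orderOf s = r) : ∃ g : G, g⁻¹ * s * g ∈ T := by
  have hrf : Fact r.Prime := ⟨hr⟩
  have hp : IsPGroup r ↥(Subgroup.zpowers s) := by
    refine IsPGroup.of_card (n := 1) ?_
    rw [Nat.card_zpowers, hs, pow_one]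
  obtain ⟨y, hy⟩ := hp.nonempty_fixed_point_of_prime_not_dvd_card (G ⧸ T) hT
  obtain ⟨g, rfl⟩ := QuotientGroup.mk_surjective y
  refine ⟨g, ?_⟩
  have h1 := hy ⟨s, Subgroup.mem_zpowers s⟩
  change ((s * g : G) : G ⧸ T) = (g : G ⧸ T) at h1
  rw [eq_comm, QuotientGroup.eq] at h1
  rwa [← mul_assoc] at h1

/-- numbers -/
theorem not_dvd_of_twelve {q r : ℕ} (hq : 1 ≤ q) (hr : r.Prime) (h12 : orderOf ((q : ℕ) : ZMod r) = 12) :
    ¬ r ∣ q ^ 12 * (q ^ 6 - 1) * (q ^ 2 - 1) * (q ^ 4 + q ^ 2 + 1) := by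
  have hrf : Fact r.Prime := ⟨hr⟩
  have h2 : 1 ≤ q ^ 2 := Nat.one_le_pow _ _ hq
  have h6 : 1 ≤ q ^ 6 := Nat.one_le_pow _ _ hq
  have key : ∀ n : ℕ, 1 ≤ n → r ∣ q ^ n - 1 → 12 ∣ n := by
    intro n hn h
    rw [← ZMod.natCast_eq_zero_iff, Nat.cast_sub (Nat.one_le_pow _ _ hq), Nat.cast_pow, Nat.cast_one, sub_eq_zero] at h
    rw [← h12]
    exact orderOf_dvd_of_pow_eq_one h
  intro h
  rcases (Nat.Prime.dvd_mul hr).1 h with h | h
  · rcases (Nat.Prime.dvd_mul hr).1 h with h | h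
    · rcases (Nat.Prime.dvd_mul hr).1 h with h | h
      · have h3 := hr.dvd_of_dvd_pow h
        rw [(ZMod.natCast_eq_zero_iff _ _).2 h3, orderOf_zero] at h12
        omega
      · have := key 6 (by norm_num) h
        omega
    · have := key 2 (by norm_num) h
      omega
  · have h1 : q ^ 6 - 1 = (q ^ 4 + q ^ 2 + 1) * (q ^ 2 - 1) := by
      zify [h2, h6]
      ring
    have := key 6 (by norm_num) (by rw [h1]; exact h.mul_right _)
    omega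

/-- **The inverting involution.** -/
theorem exists_inv {K : Type u} [Field K] [Fintype K] {q : ℕ} (hq : IsPrimePow q) (hK : Fintype.card K = q ^ 3)
    {x : ↥(twistedD4 K q)} (hx : orderOf x = q ^ 4 - q ^ 2 + 1) :
    ∃ j : ↥(twistedD4 K q), j * j = 1 ∧ j ≠ 1 ∧ j * x * j⁻¹ = x⁻¹ := by
  have hq2 : 2 ≤ q := hq.two_le
  have h0 : q ^ 2 ≤ q ^ 4 := Nat.pow_le_pow_right (by omega) (by norm_num)
  have hN : ((q ^ 4 - q ^ 2 + 1 : ℕ) : ℤ) = 1 - (q : ℤ) ^ 2 + (q : ℤ) ^ 4 := by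
    push_cast [Nat.cast_sub h0]; ring
  have hN1 : q ^ 4 - q ^ 2 + 1 ≠ 1 := by
    have : q ^ 2 < q ^ 4 := Nat.pow_lt_pow_right (by omega) (by norm_num)
    omega
  set N := q ^ 4 - q ^ 2 + 1 with hNdef
  have hodd : Odd N := by
    refine (Nat.even_sub h0 |>.2 ?_).add_one
    simp [Nat.even_pow]
  have hNd : N ∣ (q ^ 3) ^ 2 + 1 := by
    have h7 : (N : ℤ) ∣ (((q ^ 3) ^ 2 + 1 : ℕ) : ℤ) := by
      rw [hN]
      push_cast
      exact ⟨(q : ℤ) ^ 2 + 1, by ring⟩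
    exact Int.natCast_dvd_natCast.1 h7
  -- a prime divisor
  obtain ⟨r, hr, hrN⟩ := Nat.exists_prime_and_dvd hN1
  obtain ⟨hr2, hr3⟩ := H83.TorD4.prime_ne hr hrN
  have hrW := TwD4Cyc.not_dvd_W hr hr2 hr3
  have hrq : (r : ℤ) ∣ 1 - (q : ℤ) ^ 2 + (q : ℤ) ^ 4 := by
    rw [← hN]; exact Int.natCast_dvd_natCast.2 hrN
  have hG : ∀ s, ¬ (r : ℤ) ∣ Gq DataD4C.B (q : ℤ) (DataD4C.R s) := by
    intro s hs
    have h1 := DataD4C.dvd_of_G hrq s hs
    exact hr.one_lt.ne' (Nat.dvd_one.1 (by exact_mod_cast h1))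
  obtain ⟨T, h1, h3, h5, h6⟩ := TwT.tri_T hq hK DataD4C.hA DataD4C.chainOK DataD4C.hd_pi DataD4C.cycOK DataD4C.rootOK
    DataD4C.chain2OK DataD4C.hd2_eq (N := N)
    (by rw [DataD4C.fN_eq, hN]) (UntwData.coprime_of_eq (a := -(q : ℤ) + (q : ℤ) ^ 3) (by rw [hN]; ring))
  -- the index
  have hord12 := (ord_twelve hq2 hr hrN).1
  have hind : ¬ r ∣ T.index := by
    intro h
    have h7 := Subgroup.card_mul_index T
    rw [h3, S1067.result hq hK] at h7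
    have h8 : q ^ 8 + q ^ 4 + 1 = N * (q ^ 4 + q ^ 2 + 1) := by
      rw [hNdef]
      zify [h0]
      ring
    rw [h8] at h7
    have h9 : T.index = q ^ 12 * (q ^ 6 - 1) * (q ^ 2 - 1) * (q ^ 4 + q ^ 2 + 1) :=
      Nat.eq_of_mul_eq_mul_left (by omega : 0 < N) (by rw [h7]; ring)
    rw [h9] at h
    exact not_dvd_of_twelve (by omega) hr hord12 h
  obtain ⟨k, hk⟩ := hrN
  have hk0 : k ≠ 0 := by
    rintro rfl
    rw [mul_zero] at hk
    omega
  have hsord : orderOf (x ^ k) = r := by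
    rw [orderOf_pow_of_dvd hk0 ⟨r, by rw [hx, hk, mul_comm]⟩, hx, hk, Nat.mul_div_cancel _ (Nat.pos_of_ne_zero hk0)]
  obtain ⟨g, hg⟩ := exists_conj_mem hr hind hsord
  set y := g⁻¹ * x * g with hydef
  have hyk : g⁻¹ * x ^ k * g = y ^ k := by
    have := conj_pow (a := g⁻¹) (b := x) (i := k)
    rw [inv_inv] at this
    rw [hydef, this]
  have hyord : orderOf y = N := by
    rw [← hx, hydef]
    have := orderOf_injective (MulAut.conj g⁻¹).toMonoidHom (MulAut.conj g⁻¹).injective x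
    rw [← this]
    change orderOf (g⁻¹ * x * g) = orderOf (g⁻¹ * x * g⁻¹⁻¹)
    rw [inv_inv]
  have hykord : orderOf (y ^ k) = r := by
    rw [orderOf_pow_of_dvd hk0 ⟨r, by rw [hyord, hk, mul_comm]⟩, hyord, hk, Nat.mul_div_cancel _ (Nat.pos_of_ne_zero hk0)]
  rw [hyk] at hg
  have hcent := h5 r hr hrW hG (y ^ k) hg hykord
  have hyT : y ∈ T := by
    apply hcent
    rw [Subgroup.mem_centralizer_singleton_iff]
    exact (Commute.refl y).pow_right k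
  obtain ⟨w, hw⟩ := h6 r hr ⟨k, hk⟩ hrW hG
  have hinv : ∀ b ∈ T, w ^ 2 * b * (w ^ 2)⁻¹ = b⁻¹ := fun b hb =>
    inv_of_act hNd hw hb (by rw [← h3]; exact Subgroup.orderOf_dvd_natCard T hb)
  have hw4T : w ^ 2 * w ^ 2 ∈ T := by
    apply hcent
    rw [Subgroup.mem_centralizer_singleton_iff]
    have e1 := hinv _ hg
    have e2 := hinv _ (T.inv_mem hg)
    rw [inv_inv] at e2
    have e3 : w ^ 2 * w ^ 2 * (y ^ k) * (w ^ 2 * w ^ 2)⁻¹ = y ^ k := by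
      calc w ^ 2 * w ^ 2 * (y ^ k) * (w ^ 2 * w ^ 2)⁻¹ = w ^ 2 * (w ^ 2 * (y ^ k) * (w ^ 2)⁻¹) * (w ^ 2)⁻¹ := by
            group
        _ = y ^ k := by rw [e1, e2]
    exact (mul_inv_eq_iff_eq_mul.1 e3)
  have hw4 : w ^ 2 * w ^ 2 = 1 := by
    set v := w ^ 2 * w ^ 2 with hv
    have e1 := hinv v hw4T
    have e2 : w ^ 2 * v * (w ^ 2)⁻¹ = v := by rw [hv]; group
    rw [e2] at e1
    have e3 : v ^ 2 = 1 := by
      rw [pow_two]
      nth_rewrite 1 [e1]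
      exact inv_mul_cancel v
    have e4 : orderOf v ∣ N := by rw [← h3]; exact Subgroup.orderOf_dvd_natCard T hw4T
    have e5 := orderOf_dvd_of_pow_eq_one e3
    have e6 : orderOf v ∣ Nat.gcd N 2 := Nat.dvd_gcd e4 e5
    have e7 : Nat.gcd N 2 = 1 := (Nat.coprime_two_right.2 hodd)
    rw [e7] at e6
    exact orderOf_eq_one_iff.1 (Nat.dvd_one.1 e6)
  have hw1 : w ^ 2 ≠ 1 := by
    intro h
    have e1 := hinv y hyT
    rw [h, one_mul, inv_one, mul_one] at e1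
    have e3 : y ^ 2 = 1 := by
      rw [pow_two]
      nth_rewrite 1 [e1]
      exact inv_mul_cancel y
    have e5 := orderOf_dvd_of_pow_eq_one e3
    rw [hyord] at e5
    have e6 : N ∣ Nat.gcd N 2 := Nat.dvd_gcd dvd_rfl e5
    have e7 : Nat.gcd N 2 = 1 := (Nat.coprime_two_right.2 hodd)
    rw [e7] at e6
    exact hN1 (Nat.dvd_one.1 e6)
  refine ⟨g * w ^ 2 * g⁻¹, ?_, ?_, ?_⟩
  · calc g * w ^ 2 * g⁻¹ * (g * w ^ 2 * g⁻¹) = g * (w ^ 2 * w ^ 2) * g⁻¹ := by group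
      _ = 1 := by rw [hw4]; group
  · intro h
    apply hw1
    calc w ^ 2 = g⁻¹ * (g * w ^ 2 * g⁻¹) * g := by group
      _ = 1 := by rw [h]; group
  · have e1 := hinv y hyT
    calc g * w ^ 2 * g⁻¹ * x * (g * w ^ 2 * g⁻¹)⁻¹ = g * (w ^ 2 * (g⁻¹ * x * g) * (w ^ 2)⁻¹) * g⁻¹ := by group
      _ = g * (g⁻¹ * x * g)⁻¹ * g⁻¹ := by rw [← hydef, e1]
      _ = x⁻¹ := by group

end Cfsg.Agent.H52.F4Odd
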