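import Cfsg.Agent.H52.F4Odd.InvTD
import Cfsg.Agent.H394.Wei.TD4
import Cfsg.Agent.H437.Iso.Untw

/-!
# S3938, row `F₄(q)`, `q` odd (helper52): the row from the overgroups of the torus element
-/

set_option autoImplicit false

namespace Cfsg.Agent.H52.F4Odd

open Cfsg Cfsg.Lie Cfsg.Agent.OrdDiv Cfsg.Agent.H436 Cfsg.Agent.H56.Wei Cfsg.Agent.Cit.HexBase
open Cfsg.Agent.H424.Spr (Spr)

theorem Quat.congr {G H : Type*} [Group G] [Group H] (e : G ≃* H) {q : ℕ} {x : G} (h : Quat q (e x)) : Quat q x := by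
  obtain ⟨j, a₁, a₂, b₁, b₂, hjx, hj, hj1, h1, h3, h4, h5, h6, h7, h8⟩ := h.ex
  let φ : H ≃* G := e.symm
  refine ⟨φ j, φ a₁, φ a₂, φ b₁, φ b₂, ?_, ?_, ?_, ?_, ?_, ?_, ?_, ?_, ?_, fun l hl hl6 => ?_⟩
  · have : x = φ (e x) := (e.symm_apply_apply x).symm
    nth_rewrite 1 [this]
    rw [← map_inv, ← map_mul, ← map_mul, hjx, map_inv]
    rw [← this]
  · rw [← map_mul, hj, map_one]
  · intro h
    apply hj1
    have h9 := congrArg e h
    change e (e.symm j) = e 1 at h9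
    rwa [e.apply_symm_apply, map_one] at h9
  · rw [← map_mul, h1]
  · rw [← map_mul, h3]
  · rw [← map_mul, ← map_mul, h4]
  · rw [← map_mul, h5]
  · rw [← map_mul, h6]
  · rw [← map_mul, ← map_mul, h7]
  · have key : ∀ b : H, b ∈ Subgroup.closure {y : H | y * a₁ = a₁ * y ∧ y * a₂ = a₂ * y ∧ y ^ l = 1} →
        φ b ∈ Subgroup.closure {y : G | y * φ a₁ = φ a₁ * y ∧ y * φ a₂ = φ a₂ * y ∧ y ^ l = 1} := by
      intro b hb
      have h9 : φ b ∈ (Subgroup.closure {y : H | y * a₁ = a₁ * y ∧ y * a₂ = a₂ * y ∧ y ^ l = 1}).map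
          φ.toMonoidHom := ⟨b, hb, rfl⟩
      rw [MonoidHom.map_closure] at h9
      refine Subgroup.closure_mono ?_ h9
      rintro _ ⟨y, ⟨hy1, hy2, hy3⟩, rfl⟩
      refine ⟨?_, ?_, ?_⟩
      · change φ y * φ a₁ = φ a₁ * φ y
        rw [← map_mul, hy1, map_mul]
      · change φ y * φ a₂ = φ a₂ * φ y
        rw [← map_mul, hy2, map_mul]
      · change (φ y) ^ l = 1
        rw [← map_pow, hy3, map_one]
    exact ⟨key _ (h8 l hl hl6).1, key _ (h8 l hl hl6).2⟩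

/-- **The facts on `³D₄(q)`.** -/
theorem quat_td4 {S : Type} [Group S] [Finite S] {q : ℕ} (hn : IsNamed (.td4 q) S) (hodd : Odd q) {y : S}
    (hy : orderOf y = q ^ 4 - q ^ 2 + 1) : Quat q y := by
  obtain ⟨⟨F, _, _, hF, ⟨e⟩⟩, hcond, -, -⟩ := id hn
  have hpp : IsPrimePow q := hcond
  have : Finite ↥(twistedD4 F q) := Finite.of_equiv S e.toEquiv
  have h2 : (2 : F) ≠ 0 := by
    intro h
    have h1 : ((2 : ℕ) : F) = 0 := by exact_mod_cast h
    have h3 : ringChar F ∣ 2 := (ringChar.spec F 2).1 h1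
    have h4 : ringChar F = 2 := by
      rcases (Nat.dvd_prime Nat.prime_two).1 h3 with h5 | h5
      · exfalso
        have h6 : ((1 : ℕ) : F) = 0 := (ringChar.spec F 1).2 (by rw [h5])
        rw [Nat.cast_one] at h6
        exact one_ne_zero h6
      · exact h5
    have hch : CharP F 2 := by rw [← h4]; exact ringChar.charP F
    obtain ⟨n, _, hn'⟩ := FiniteField.card F 2
    rw [hF] at hn'
    have h7 : Odd (q ^ 3) := hodd.pow
    rw [hn'] at h7
    exact (Nat.not_even_iff_odd.2 h7) (even_two.pow_of_ne_zero n.pos.ne')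
  obtain ⟨σ, hσ, ⟨c⟩⟩ := Cfsg.Agent.Cit.HexD4.exists_d4 hF
  obtain ⟨j, hj, hj1, hjx⟩ := exists_inv hpp hF (x := e y) (by
    rw [← hy]
    exact orderOf_injective e.toMonoidHom e.injective y)
  exact Quat.congr e (quat_of_inv c hpp.two_le hF h2 hj hj1 hjx)

/-- the overgroups in `³D₄(q)` -/
theorem over_td4' {S : Type} [Group S] [Finite S] {q : ℕ} (hn : IsNamed (.td4 q) S) {y : S}
    (hy : orderOf y = q ^ 4 - q ^ 2 + 1) (H : Subgroup S) (hH : y ∈ H) (hne : H ≠ ⊤) :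
    H ≤ Subgroup.normalizer (Subgroup.zpowers y : Set S) := by
  rcases Cfsg.Agent.H394.Wei.over_td4 hn y hy H hH hne with h | ⟨S', _, _, _, _, _, g, hg, _⟩
  · exact h
  · exact hg.elim

/-- **The row, `q` odd, from the overgroups of the torus element.** -/
theorem spr_f4_odd {T : Type} [Group T] [Finite T] (hs : IsSimpleGroup T) {q : ℕ} (hn : IsNamed (.f4 q) T)
    (hodd : Odd q) (hover : ∀ x : T, orderOf x = q ^ 4 - q ^ 2 + 1 → Over x (fun g => g = .td4 q)) : Spr T := by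
  obtain ⟨⟨F, _, _, hF, ⟨e⟩⟩, -, -, -⟩ := id hn
  obtain ⟨x, hx⟩ := Cfsg.Agent.H437.Iso.f4_order12 (F := F)
  have hx' : orderOf (e.symm x) = q ^ 4 - q ^ 2 + 1 := by
    rw [← hF, ← Nat.card_eq_fintype_card, ← hx]
    exact orderOf_injective e.symm.toMonoidHom e.symm.injective x
  exact spr_of hs hn hodd hx' (hover _ hx') (fun _ hn' y hy => ⟨over_td4' hn' hy, quat_td4 hn' hodd hy⟩)

end Cfsg.Agent.H52.F4Odd
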