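import Cfsg.Agent.H52.F4Odd.Uniq
import Cfsg.Agent.Cit.HexInv
import Cfsg.Agent.Cit.HexD4
import Cfsg.Agent.H334.Symp.ModelSetup
import Cfsg.Agent.ClassicalGeometry.PSL2Basic

/-!
# S3938, row `F₄(q)`, `q` odd (helper52): the quaternion configuration in `³D₄(q)`
-/

set_option autoImplicit false

namespace Cfsg.Agent.H52.F4Odd

open Cfsg Cfsg.Agent.Lib.SL2Mat Cfsg.Agent.Cit.HexBase Cfsg.Agent.Cit.HexBase.HexGrp

universe u

/-- a quaternion pair in `SL(2,K)` -/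
theorem exists_quat_SL2 (K : Type u) [Field K] [Finite K] (h2 : (2 : K) ≠ 0) : ∃ a b : SL2 K,
    a * a = dg (-1) (neg_ne_zero.2 one_ne_zero) ∧ b * b = dg (-1) (neg_ne_zero.2 one_ne_zero) ∧
      (a * b) * (a * b) = dg (-1) (neg_ne_zero.2 one_ne_zero) := by
  obtain ⟨u, v, huv⟩ := exists_quad h2 (s := (1 : K)) one_ne_zero (-1)
  have hi : (-1 : K)⁻¹ = -1 := by rw [inv_neg, inv_one]
  have huv' : u * u + v * v = -1 := by linear_combination huv
  refine ⟨mk 0 1 (-1) 0 (by ring), mk u v v (-u) (by linear_combination -huv), ?_, ?_, ?_⟩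
  · refine ext_ent ?_ ?_ ?_ ?_ <;> simp [ent_mul, hi]
  · refine ext_ent ?_ ?_ ?_ ?_ <;>
      simp only [ent_mul, mk_00, mk_01, mk_10, mk_11, dg_00, dg_01, dg_10, dg_11, hi]
    · linear_combination huv'
    · ring
    · ring
    · linear_combination huv'
  · refine ext_ent ?_ ?_ ?_ ?_ <;>
      simp only [ent_mul, mk_00, mk_01, mk_10, mk_11, dg_00, dg_01, dg_10, dg_11, hi]
    · linear_combination huv'
    · ring
    · ring
    · linear_combination huv'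

/-- `SL(2,K)` is generated by its elements of order `l` -/
theorem closure_SL2 (K : Type u) [Field K] [Fintype K] (h4 : 3 < Fintype.card K) {l : ℕ} (hl : l.Prime) (hl2 : l ≠ 2)
    (hd : l ∣ Fintype.card K ^ 2 - 1) : Subgroup.closure {y : SL2 K | y ^ l = 1} = ⊤ := by
  have hlf : Fact l.Prime := ⟨hl⟩
  have hn : (Subgroup.closure {y : SL2 K | y ^ l = 1}).Normal := by
    refine Subgroup.Normal.of_conjugate_fixed fun g => ?_
    change (Subgroup.closure {y : SL2 K | y ^ l = 1}).map (MulAut.conj g).toMonoidHom = _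
    rw [MonoidHom.map_closure]
    congr 1
    ext y
    constructor
    · rintro ⟨x, hx, rfl⟩
      change (MulAut.conj g x) ^ l = 1
      rw [← map_pow, show x ^ l = 1 from hx, map_one]
    · intro hy
      refine ⟨(MulAut.conj g)⁻¹ y, ?_, MulAut.apply_inv_self _ _ _⟩
      change ((MulAut.conj g)⁻¹ y) ^ l = 1
      rw [← map_pow, show y ^ l = 1 from hy, map_one]
  rcases Cfsg.Agent.H334.Symp.El.sl_normal h4 _ hn with h | h
  · exact h
  · exfalso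
    have hcard : l ∣ Nat.card (SL2 K) := by
      rw [Cfsg.Agent.ClassicalGeometry.PSL2Basic.card_SL2]
      exact Dvd.dvd.mul_left hd _
    obtain ⟨y, hy⟩ := exists_prime_orderOf_dvd_card' (G := SL2 K) l hcard
    have h1 : y ∈ Subgroup.center (SL2 K) := h (Subgroup.subset_closure (by
      change y ^ l = 1
      rw [← hy, pow_orderOf_eq_one]))
    have h3 : y ^ 2 = 1 := by
      obtain ⟨r, hr, hyr⟩ := Matrix.SpecialLinearGroup.mem_center_iff.1 h1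
      apply Subtype.ext
      rw [Matrix.SpecialLinearGroup.coe_pow, ← hyr, ← map_pow]
      rw [Fintype.card_fin] at hr
      rw [hr, map_one]
      rfl
    have h5 := orderOf_dvd_of_pow_eq_one h3
    rw [hy] at h5
    exact hl2 ((Nat.prime_dvd_prime_iff_eq hl Nat.prime_two).1 h5)

theorem sq_two : ∀ a : ZMod 2, a ^ 2 = 1 → a = 1 := by decide

/-- numbers -/
theorem six_facts {q l : ℕ} (hq : 1 ≤ q) (hl : l.Prime) (h6 : orderOf ((q : ℕ) : ZMod l) = 6) :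
    l ≠ 2 ∧ l ∣ (q ^ 3) ^ 2 - 1 := by
  have hlf : Fact l.Prime := ⟨hl⟩
  have h1 : ((q : ℕ) : ZMod l) ^ 6 = 1 := by rw [← h6, pow_orderOf_eq_one]
  constructor
  · rintro rfl
    have h2 := sq_two
    have h3 : ((q : ℕ) : ZMod 2) ^ 3 = 1 := h2 _ (by rw [← pow_mul]; exact h1)
    have h4 := orderOf_dvd_of_pow_eq_one h3
    rw [h6] at h4
    omega
  · rw [← ZMod.natCast_eq_zero_iff, Nat.cast_sub (Nat.one_le_pow _ _ (Nat.one_le_pow _ _ hq)), ← pow_mul, Nat.cast_pow,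
      h1, Nat.cast_one, sub_self]

section Hex

variable {E : Type u} [Field E] [Fintype E] {σ : E ≃+* E} {L : Type*} [Group L] (c : HexGrp σ L)
include c

/-- **The configuration with `j = z`.** -/
theorem quat_z {q : ℕ} (hq : 2 ≤ q) (hE : Fintype.card E = q ^ 3) (h2 : (2 : E) ≠ 0) :
    ∃ a₁ a₂ b₁ b₂ : L, a₁ * a₁ = c.z ∧ a₂ * a₂ = c.z ∧
    (a₁ * a₂) * (a₁ * a₂) = c.z ∧ b₁ * b₁ = c.z ∧ b₂ * b₂ = c.z ∧ (b₁ * b₂) * (b₁ * b₂) = c.z ∧
    ∀ l : ℕ, l.Prime → orderOf (q : ZMod l) = 6 →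
      b₁ ∈ Subgroup.closure {y : L | y * a₁ = a₁ * y ∧ y * a₂ = a₂ * y ∧ y ^ l = 1} ∧
      b₂ ∈ Subgroup.closure {y : L | y * a₁ = a₁ * y ∧ y * a₂ = a₂ * y ∧ y ^ l = 1} := by
  obtain ⟨a, b, ha, hb, hab⟩ := exists_quat_SL2 ↥(fx σ) (HexGrp.two_ne h2)
  obtain ⟨a', b', ha', hb', hab'⟩ := exists_quat_SL2 E h2
  have hc : ∀ l : ℕ, l.Prime → orderOf (q : ZMod l) = 6 → ∀ x : SL2 E,
      c.pb x ∈ Subgroup.closure {y : L | y * c.p4 a = c.p4 a * y ∧ y * c.p4 b = c.p4 b * y ∧ y ^ l = 1} := by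
    intro l hl h6 x
    obtain ⟨hl2, hld⟩ := six_facts (by omega) hl h6
    have h4 : 3 < Fintype.card E := by
      rw [hE]
      calc 3 < 2 ^ 3 := by norm_num
        _ ≤ q ^ 3 := Nat.pow_le_pow_left hq 3
    have htop := closure_SL2 E h4 hl hl2 (by rw [hE]; exact hld)
    have hx : x ∈ Subgroup.closure {y : SL2 E | y ^ l = 1} := by rw [htop]; trivial
    have h5 : c.pb x ∈ (Subgroup.closure {y : SL2 E | y ^ l = 1}).map c.pb := ⟨x, hx, rfl⟩
    rw [MonoidHom.map_closure] at h5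
    refine Subgroup.closure_mono ?_ h5
    rintro _ ⟨y, hy, rfl⟩
    refine ⟨c.comm_pb_p4 y a, c.comm_pb_p4 y b, ?_⟩
    rw [← map_pow, show y ^ l = 1 from hy, map_one]
  refine ⟨c.p4 a, c.p4 b, c.pb a', c.pb b', ?_, ?_, ?_, ?_, ?_, ?_, fun l hl h6 => ⟨hc l hl h6 a', hc l hl h6 b'⟩⟩
  · rw [← map_mul, ha, c.z_eq_p4]
  · rw [← map_mul, hb, c.z_eq_p4]
  · rw [← map_mul, ← map_mul, hab, c.z_eq_p4]
  · rw [← map_mul, ha']; rfl
  · rw [← map_mul, hb']; rfl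
  · rw [← map_mul, ← map_mul, hab']; rfl

/-- **The configuration for every inverting involution.** -/
theorem quat_of_inv [Finite L] {q : ℕ} (hq : 2 ≤ q) (hE : Fintype.card E = q ^ 3) (h2 : (2 : E) ≠ 0) {x j : L}
    (hj : j * j = 1) (hj1 : j ≠ 1) (hjx : j * x * j⁻¹ = x⁻¹) : Quat q x := by
  obtain ⟨a₁, a₂, b₁, b₂, h1, h3, h4, h5, h6, h7, h8⟩ := quat_z c hq hE h2
  obtain ⟨g, hg⟩ := isConj_iff.1 (c.isConj_z h2 hj hj1)
  -- `j = g⁻¹ z g`
  let φ : L ≃* L := MulAut.conj g⁻¹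
  have hφ : φ c.z = j := by
    change g⁻¹ * c.z * g⁻¹⁻¹ = j
    rw [← hg]
    group
  refine ⟨j, φ a₁, φ a₂, φ b₁, φ b₂, hjx, hj, hj1, ?_, ?_, ?_, ?_, ?_, ?_, fun l hl hl6 => ?_⟩
  · rw [← map_mul, h1, hφ]
  · rw [← map_mul, h3, hφ]
  · rw [← map_mul, ← map_mul, h4, hφ]
  · rw [← map_mul, h5, hφ]
  · rw [← map_mul, h6, hφ]
  · rw [← map_mul, ← map_mul, h7, hφ]
  · have key : ∀ b : L, b ∈ Subgroup.closure {y : L | y * a₁ = a₁ * y ∧ y * a₂ = a₂ * y ∧ y ^ l = 1} →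
        φ b ∈ Subgroup.closure {y : L | y * φ a₁ = φ a₁ * y ∧ y * φ a₂ = φ a₂ * y ∧ y ^ l = 1} := by
      intro b hb
      have h9 : φ b ∈ (Subgroup.closure {y : L | y * a₁ = a₁ * y ∧ y * a₂ = a₂ * y ∧ y ^ l = 1}).map
          φ.toMonoidHom := ⟨b, hb, rfl⟩
      rw [MonoidHom.map_closure] at h9
      refine Subgroup.closure_mono ?_ h9
      rintro _ ⟨y, ⟨hy1, hy2, hy3⟩, rfl⟩
      refine ⟨?_, ?_, ?_⟩
      · change φ y * φ a₁ = φ a₁ * φ y
        rw [← map_mul, hy1, map_mul]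
      · change φ y * φ a₂ = φ a₂ * φ y
        rw [← map_mul, hy2, map_mul]
      · change (φ y) ^ l = 1
        rw [← map_pow, hy3, map_one]
    exact ⟨key _ (h8 l hl hl6).1, key _ (h8 l hl hl6).2⟩

end Hex

end Cfsg.Agent.H52.F4Odd
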