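import Cfsg.Agent.H52.F4Odd.Main
import Cfsg.Agent.H824.Wei.OverF4

/-!
# S3938, row `F₄(q)`, `q` odd (helper52)
-/

set_option autoImplicit false

namespace Cfsg.Agent.H52.F4Odd

open Cfsg Cfsg.Lie Cfsg.Agent.OrdDiv Cfsg.Agent.H436
open Cfsg.Agent.H424.Spr (Spr)

/-- **The row `F₄(q)`, `q` odd.** -/
theorem row_f4_odd {q : ℕ} (hodd : Odd q) : Cfsg.Agent.H862.Spr.Row (.f4 q) := by
  intro T _ _ hs hn
  have hpp : IsPrimePow q := hn.cond
  have hq : 2 < q := by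
    have := hpp.two_le
    rcases hodd with ⟨k, hk⟩
    omega
  exact spr_f4_odd hs hn hodd fun x hx => Cfsg.Agent.H824.Wei.over_F4 hq hn x hx

end Cfsg.Agent.H52.F4Odd
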